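import Mathlib

/-!
Intersection numbers of a Steiner system on a ground finset `U`.
-/

set_option autoImplicit false

namespace CfsgLib.GolayDesign

variable {α : Type*} [DecidableEq α]

/-- `B` is a Steiner system with parameters `(t, k)` on the points of `U`. -/
structure DesignOn (U : Finset α) (t k : ℕ) (B : Finset (Finset α)) : Prop where
  sub : ∀ b ∈ B, b ⊆ U
  size : ∀ b ∈ B, b.card = k
  ex : ∀ s ⊆ U, s.card = t → ∃ b ∈ B, s ⊆ b
  uniq : ∀ s, s.card = t → ∀ b ∈ B, ∀ c ∈ B, s ⊆ b → s ⊆ c → b = c

variable {U : Finset α} {t k : ℕ} {B : Finset (Finset α)}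

theorem DesignOn.lam (h : DesignOn U t k B) {s : Finset α} (hs : s ⊆ U) (hst : s.card ≤ t) :
    (B.filter (s ⊆ ·)).card * (k - s.card).choose (t - s.card)
      = (U.card - s.card).choose (t - s.card) := by
  have key : (B.filter (s ⊆ ·)).biUnion (fun b => (b \ s).powersetCard (t - s.card))
      = (U \ s).powersetCard (t - s.card) := by
    ext w
    simp only [Finset.mem_biUnion, Finset.mem_filter, Finset.mem_powersetCard]
    constructor
    · rintro ⟨b, ⟨hb, -⟩, hw, hc⟩
      exact ⟨hw.trans (Finset.sdiff_subset_sdiff (h.sub b hb) le_rfl), hc⟩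
    · rintro ⟨hw, hc⟩
      rw [Finset.subset_sdiff] at hw
      have hcard : (s ∪ w).card = t := by
        rw [Finset.card_union_of_disjoint hw.2.symm, hc]; omega
      obtain ⟨b, hb, hsb⟩ := h.ex _ (Finset.union_subset hs hw.1) hcard
      rw [Finset.union_subset_iff] at hsb
      exact ⟨b, ⟨hb, hsb.1⟩, Finset.subset_sdiff.2 ⟨hsb.2, hw.2⟩, hc⟩
  have := congrArg Finset.card key
  rw [Finset.card_powersetCard, Finset.card_sdiff_of_subset hs, Finset.card_biUnion] at this
  · rw [← this, Finset.sum_const_nat]
    intro b hb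
    obtain ⟨hb, hsb⟩ := Finset.mem_filter.1 hb
    rw [Finset.card_powersetCard, Finset.card_sdiff_of_subset hsb, h.size b hb]
  · intro b hb c hc hne
    rw [Function.onFun, Finset.disjoint_left]
    intro w hwb hwc
    simp only [Finset.coe_filter, Set.mem_ofPred_eq] at hb hc
    rw [Finset.mem_powersetCard, Finset.subset_sdiff] at hwb hwc
    refine hne (h.uniq (s ∪ w) ?_ b hb.1 c hc.1 (Finset.union_subset hb.2 hwb.1.1)
      (Finset.union_subset hc.2 hwc.1.1))
    rw [Finset.card_union_of_disjoint hwb.1.2.symm, hwb.2]; omega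

/-- Number of blocks other than `b` meeting `b` exactly in `s`. -/
def meets (B : Finset (Finset α)) (b s : Finset α) : ℕ :=
  ((B.erase b).filter fun c => b ∩ c = s).card

theorem DesignOn.meets_eq_zero (h : DesignOn U t k B) {b s : Finset α} (hb : b ∈ B)
    (hs : t ≤ s.card) : meets B b s = 0 := by
  rw [meets, Finset.card_eq_zero, Finset.filter_eq_empty_iff]
  intro c hc hbc
  obtain ⟨hne, hcB⟩ := Finset.mem_erase.1 hc
  obtain ⟨r, hrs, hr⟩ := Finset.exists_subset_card_eq hs
  exact hne (h.uniq r hr c hcB b hb (hrs.trans (hbc ▸ Finset.inter_subset_right))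
    (hrs.trans (hbc ▸ Finset.inter_subset_left)))

theorem sum_meets {b s : Finset α} (hb : b ∈ B) (hsb : s ⊆ b) :
    ∑ w ∈ (b \ s).powerset, meets B b (s ∪ w) = (B.filter (s ⊆ ·)).card - 1 := by
  have e : (B.erase b).filter (s ⊆ ·) = (B.filter (s ⊆ ·)).erase b := Finset.filter_erase _ _ _
  rw [← Finset.card_erase_of_mem (Finset.mem_filter.2 ⟨hb, hsb⟩ : b ∈ B.filter (s ⊆ ·)), ← e]
  rw [Finset.card_eq_sum_card_fiberwise (f := fun c => (b ∩ c) \ s) (t := (b \ s).powerset)]
  · refine Finset.sum_congr rfl fun w hw => ?_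
    rw [Finset.mem_powerset, Finset.subset_sdiff] at hw
    rw [meets, Finset.filter_filter]
    congr 1
    refine Finset.filter_congr fun c _ => ⟨fun e => ?_, fun e => ?_⟩
    · refine ⟨(Finset.subset_union_left).trans (e ▸ Finset.inter_subset_right), ?_⟩
      rw [e, Finset.union_sdiff_left, Finset.sdiff_eq_self_of_disjoint hw.2]
    · rw [← e.2, Finset.union_sdiff_of_subset (Finset.subset_inter hsb e.1)]
  · intro c _
    simp only [Finset.coe_powerset, Set.mem_preimage, Set.mem_ofPred_eq]
    exact Finset.sdiff_subset_sdiff Finset.inter_subset_left le_rfl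

/-- One step down the triangle: the exact meet number of `s` from those of larger sets. -/
theorem DesignOn.meets_step (h : DesignOn U t k B) {b s : Finset α} (hb : b ∈ B) (hsb : s ⊆ b)
    (j lam : ℕ) (hj : s.card = j) (hjt : j ≤ t)
    (hlam : lam * (k - j).choose (t - j) = (U.card - j).choose (t - j))
    (hpos : 0 < (k - j).choose (t - j)) (e : ℕ → ℕ)
    (he : ∀ u ⊆ b, j < u.card → meets B b u = e u.card) :
    meets B b s + ∑ i ∈ Finset.range (k - j), (k - j).choose (i + 1) * e (j + (i + 1)) = lam - 1 := by
  have hl := h.lam (hsb.trans (h.sub b hb)) (hj.trans_le hjt)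
  rw [hj, ← hlam] at hl
  rw [← Nat.eq_of_mul_eq_mul_right hpos hl, ← sum_meets hb hsb, Finset.sum_powerset,
    Finset.card_sdiff_of_subset hsb, h.size b hb, hj, Finset.sum_range_succ' _ (k - j), add_comm]
  congr 1
  · refine Finset.sum_congr rfl fun i _ => ?_
    rw [Finset.sum_const_nat (m := e (j + (i + 1))), Finset.card_powersetCard,
      Finset.card_sdiff_of_subset hsb, h.size b hb, hj]
    intro w hw
    rw [Finset.mem_powersetCard, Finset.subset_sdiff] at hw
    have hc : (s ∪ w).card = j + (i + 1) := by
      rw [Finset.card_union_of_disjoint hw.1.2.symm, hj, hw.2]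
    rw [he _ (Finset.union_subset hsb hw.1.1) (by omega), hc]
  · simp

omit [DecidableEq α] in
theorem steiner_designOn [Fintype α] {B : Set (Finset α)} (hfin : B.Finite)
    (hsize : ∀ b ∈ B, b.card = k) (huniq : ∀ s : Finset α, s.card = t → ∃! b, b ∈ B ∧ s ⊆ b) :
    DesignOn Finset.univ t k hfin.toFinset where
  sub _ _ := Finset.subset_univ _
  size b hb := hsize b (hfin.mem_toFinset.1 hb)
  ex s _ hs := by
    obtain ⟨b, ⟨hb, hsb⟩, -⟩ := huniq s hs
    exact ⟨b, hfin.mem_toFinset.2 hb, hsb⟩
  uniq s hs b hb c hc hsb hsc :=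
    (huniq s hs).unique ⟨hfin.mem_toFinset.1 hb, hsb⟩ ⟨hfin.mem_toFinset.1 hc, hsc⟩

/-- The meet numbers of an S(5, 6, 12). -/
def eSmall : ℕ → ℕ := fun i => [1, 0, 3, 2, 3].getD i 0

/-- The meet numbers of an S(5, 8, 24). -/
def eLarge : ℕ → ℕ := fun i => [30, 0, 16, 0, 4].getD i 0

theorem DesignOn.meets_small (h : DesignOn U 5 6 B) (hU : U.card = 12) {b : Finset α} (hb : b ∈ B)
    {s : Finset α} (hsb : s ⊆ b) : meets B b s = eSmall s.card := by
  obtain hs | hs := Nat.lt_or_ge s.card 5
  swap
  · rw [h.meets_eq_zero hb hs, eSmall, List.getD_eq_default _ _ (by simpa using hs)]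
  have main : ∀ j, j < 5 → ∀ u ⊆ b, u.card = 4 - j → meets B b u = eSmall u.card := by
    intro j
    induction j using Nat.strong_induction_on with
    | _ j ih =>
      intro hj u hu hc
      have he : ∀ v ⊆ b, 4 - j < v.card → meets B b v = eSmall v.card := by
        intro v hv hlt
        obtain hv5 | hv5 := Nat.lt_or_ge v.card 5
        · exact ih (4 - v.card) (by omega) (by omega) v hv (by omega)
        · rw [h.meets_eq_zero hb hv5, eSmall, List.getD_eq_default _ _ (by simpa using hv5)]
      interval_cases j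
      · have := h.meets_step hb hu 4 4 hc (by omega) (by rw [hU]; rfl) (by decide) eSmall he
        simp [Finset.sum_range_succ, eSmall, hc, Nat.choose] at this ⊢; omega
      · have := h.meets_step hb hu 3 12 hc (by omega) (by rw [hU]; rfl) (by decide) eSmall he
        simp [Finset.sum_range_succ, eSmall, hc, Nat.choose] at this ⊢; omega
      · have := h.meets_step hb hu 2 30 hc (by omega) (by rw [hU]; rfl) (by decide) eSmall he
        simp [Finset.sum_range_succ, eSmall, hc, Nat.choose] at this ⊢; omega
      · have := h.meets_step hb hu 1 66 hc (by omega) (by rw [hU]; rfl) (by decide) eSmall he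
        simp [Finset.sum_range_succ, eSmall, hc, Nat.choose] at this ⊢; omega
      · have := h.meets_step hb hu 0 132 hc (by omega) (by rw [hU]; rfl) (by decide) eSmall he
        simp [Finset.sum_range_succ, eSmall, hc, Nat.choose] at this ⊢; omega
  exact main (4 - s.card) (by omega) s hsb (by omega)

theorem DesignOn.meets_large (h : DesignOn U 5 8 B) (hU : U.card = 24) {b : Finset α} (hb : b ∈ B)
    {s : Finset α} (hsb : s ⊆ b) : meets B b s = eLarge s.card := by
  obtain hs | hs := Nat.lt_or_ge s.card 5
  swap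
  · rw [h.meets_eq_zero hb hs, eLarge, List.getD_eq_default _ _ (by simpa using hs)]
  have main : ∀ j, j < 5 → ∀ u ⊆ b, u.card = 4 - j → meets B b u = eLarge u.card := by
    intro j
    induction j using Nat.strong_induction_on with
    | _ j ih =>
      intro hj u hu hc
      have he : ∀ v ⊆ b, 4 - j < v.card → meets B b v = eLarge v.card := by
        intro v hv hlt
        obtain hv5 | hv5 := Nat.lt_or_ge v.card 5
        · exact ih (4 - v.card) (by omega) (by omega) v hv (by omega)
        · rw [h.meets_eq_zero hb hv5, eLarge, List.getD_eq_default _ _ (by simpa using hv5)]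
      interval_cases j
      · have := h.meets_step hb hu 4 5 hc (by omega) (by rw [hU]; rfl) (by decide) eLarge he
        simp [Finset.sum_range_succ, eLarge, hc, Nat.choose] at this ⊢; omega
      · have := h.meets_step hb hu 3 21 hc (by omega) (by rw [hU]; rfl) (by decide) eLarge he
        simp [Finset.sum_range_succ, eLarge, hc, Nat.choose] at this ⊢; omega
      · have := h.meets_step hb hu 2 77 hc (by omega) (by rw [hU]; rfl) (by decide) eLarge he
        simp [Finset.sum_range_succ, eLarge, hc, Nat.choose] at this ⊢; omega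
      · have := h.meets_step hb hu 1 253 hc (by omega) (by rw [hU]; rfl) (by decide) eLarge he
        simp [Finset.sum_range_succ, eLarge, hc, Nat.choose] at this ⊢; omega
      · have := h.meets_step hb hu 0 759 hc (by omega) (by rw [hU]; rfl) (by decide) eLarge he
        simp [Finset.sum_range_succ, eLarge, hc, Nat.choose] at this ⊢; omega
  exact main (4 - s.card) (by omega) s hsb (by omega)

end CfsgLib.GolayDesign
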