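import Cfsg.Agent.Lib.Golay.Octads
import Cfsg.Agent.Lib.GolayDesign.Triangle
import Cfsg.Prelude.Def_SporadicCombinatorics

/-!
Meet numbers of octads, sextets and trios of the length-24 code, without computation.
-/

set_option autoImplicit false

namespace CfsgLib.GolayDesign

open Cfsg CfsgLib.Golay

local notation "𝒞" => supports (golayCode : Set (GolayPt → ZMod 2))

theorem univ_mem_supports : (Finset.univ : Finset GolayPt) ∈ 𝒞 :=
  ⟨1, one_mem_golay, by ext p; simp [support₂]⟩

theorem compl_mem_supports {s : Finset GolayPt} (hs : s ∈ 𝒞) : sᶜ ∈ 𝒞 := by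
  have h := supports_symmDiff univ_mem_supports hs
  rwa [← Finset.top_eq_univ, top_symmDiff] at h

theorem octads_finite : octads.Finite := Set.toFinite _

theorem octads_designOn : DesignOn Finset.univ 5 8 octads_finite.toFinset :=
  steiner_designOn octads_finite octads_steiner.1 octads_steiner.2

theorem card_univ_pt : (Finset.univ : Finset GolayPt).card = 24 := by simp

/-- Number of other octads meeting an octad exactly in a given subset of it. -/
theorem octad_meets {o s : Finset GolayPt} (ho : o ∈ octads) (hs : s ⊆ o) :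
    meets octads_finite.toFinset o s = eLarge s.card :=
  octads_designOn.meets_large card_univ_pt (octads_finite.mem_toFinset.2 ho) hs

theorem ncard_octad_meet {o s : Finset GolayPt} (ho : o ∈ octads) (hs : s ⊆ o) (hne : s.card ≠ 8) :
    {o' : Finset GolayPt | o' ∈ octads ∧ o ∩ o' = s}.ncard = eLarge s.card := by
  rw [← octad_meets ho hs, meets, ← Set.ncard_coe_finset]
  congr 1
  ext c
  simp only [Finset.coe_filter, Finset.mem_erase, Set.Finite.mem_toFinset, Set.mem_ofPred_eq]
  refine ⟨fun h => ⟨⟨?_, h.1⟩, h.2⟩, fun h => ⟨h.1.2, h.2⟩⟩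
  rintro rfl
  exact hne (by rw [← h.2, Finset.inter_self, ho.2])

theorem octad_inter_card {o o' : Finset GolayPt} (ho : o ∈ octads) (ho' : o' ∈ octads) (hne : o ≠ o') :
    (o ∩ o').card = 0 ∨ (o ∩ o').card = 2 ∨ (o ∩ o').card = 4 := by
  obtain ⟨k, hk⟩ := even_card_inter ho.1 ho'.1
  have : (o ∩ o').card < 5 := Nat.lt_of_not_le fun h => hne (octad_eq_of_five ho ho' h)
  omega

theorem card_symmDiff' (s t : Finset GolayPt) :
    (symmDiff s t).card + 2 * (s ∩ t).card = s.card + t.card := by
  have h1 := Finset.card_sdiff_add_card_inter s t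
  have h2 := Finset.card_sdiff_add_card_inter t s
  have h3 : (symmDiff s t).card = (s \ t).card + (t \ s).card :=
    Finset.card_union_of_disjoint disjoint_sdiff_sdiff
  rw [Finset.inter_comm t s] at h2
  omega

theorem octad_symmDiff {o o' : Finset GolayPt} (ho : o ∈ octads) (ho' : o' ∈ octads)
    (h : (o ∩ o').card = 4) : symmDiff o o' ∈ octads := by
  refine ⟨supports_symmDiff ho.1 ho'.1, ?_⟩
  have := card_symmDiff' o o'
  have := ho.2
  have := ho'.2
  omega

theorem third_octad {o o' : Finset GolayPt} (ho : o ∈ octads) (ho' : o' ∈ octads)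
    (h : Disjoint o o') : (o ∪ o')ᶜ ∈ octads := by
  refine ⟨compl_mem_supports ?_, ?_⟩
  · rw [← Finset.sup_eq_union, ← h.symmDiff_eq_sup]
    exact supports_symmDiff ho.1 ho'.1
  · rw [Finset.card_compl, Finset.card_union_of_disjoint h, ho.2, ho'.2]
    simp

/-! ### Trios -/

theorem trios_finite : trios.Finite := Set.toFinite _

theorem trio_eq {T : Finset (Finset GolayPt)} (hT : T ∈ trios) {o o' : Finset GolayPt}
    (ho : o ∈ T) (ho' : o' ∈ T) (hne : o ≠ o') : T = {o, o', (o ∪ o')ᶜ} := by
  obtain ⟨hc, hoct, hdis⟩ := hT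
  have hd := hdis o ho o' ho' hne
  obtain ⟨x, hx⟩ : ∃ x, T = {o, o', x} ∧ x ≠ o ∧ x ≠ o' := by
    have h1 : ({o, o'} : Finset (Finset GolayPt)) ⊆ T := by
      simp [Finset.insert_subset_iff, ho, ho']
    have h2 : (T \ {o, o'}).card = 1 := by
      rw [Finset.card_sdiff_of_subset h1, hc, Finset.card_pair hne]
    obtain ⟨x, hx⟩ := Finset.card_eq_one.1 h2
    have hx' : x ∈ T \ {o, o'} := by rw [hx]; simp
    simp only [Finset.mem_sdiff, Finset.mem_insert, Finset.mem_singleton, not_or] at hx'
    refine ⟨x, ?_, hx'.2⟩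
    have := Finset.sdiff_union_of_subset h1
    rw [hx] at this
    rw [← this]
    ext y; simp only [Finset.mem_union, Finset.mem_insert, Finset.mem_singleton]; tauto
  have hxT : x ∈ T := by rw [hx.1]; simp
  have hsub : x ⊆ (o ∪ o')ᶜ := by
    intro p hp
    simp only [Finset.mem_compl, Finset.mem_union, not_or]
    exact ⟨Finset.disjoint_left.1 (hdis x hxT o ho hx.2.1) hp,
      Finset.disjoint_left.1 (hdis x hxT o' ho' hx.2.2) hp⟩
  have h8 := (third_octad (hoct o ho) (hoct o' ho') hd).2
  have hx8 := (hoct x hxT).2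
  rw [hx.1, Finset.eq_of_subset_of_card_le hsub (by omega)]

theorem trio_mk {o o' : Finset GolayPt} (ho : o ∈ octads) (ho' : o' ∈ octads) (h : Disjoint o o') :
    ({o, o', (o ∪ o')ᶜ} : Finset (Finset GolayPt)) ∈ trios := by
  have h3 := third_octad ho ho' h
  have ne : ∀ a b : Finset GolayPt, a ∈ octads → Disjoint a b → a ≠ b := by
    rintro a b ha hab rfl
    rw [disjoint_self, Finset.bot_eq_empty] at hab
    have := ha.2
    rw [hab] at this
    simp at this
  have d1 : Disjoint o (o ∪ o')ᶜ := disjoint_compl_right.mono_left Finset.subset_union_left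
  have d2 : Disjoint o' (o ∪ o')ᶜ := disjoint_compl_right.mono_left Finset.subset_union_right
  refine ⟨?_, ?_, ?_⟩
  · rw [Finset.card_insert_of_notMem, Finset.card_pair (ne _ _ ho' d2)]
    simp only [Finset.mem_insert, Finset.mem_singleton, not_or]
    exact ⟨ne _ _ ho h, ne _ _ ho d1⟩
  · simp only [Finset.mem_insert, Finset.mem_singleton, forall_eq_or_imp, forall_eq]
    exact ⟨ho, ho', h3⟩
  · simp only [Finset.mem_insert, Finset.mem_singleton]
    rintro a (rfl | rfl | rfl) b (rfl | rfl | rfl) hab <;>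
      first
        | exact absurd rfl hab
        | assumption
        | exact h.symm
        | exact d1.symm
        | exact d2.symm

theorem ncard_trios : trios.ncard = 3795 := by
  classical
  set O := octads_finite.toFinset with hO
  set P := O.sigma fun o => (O.erase o).filter fun o' => o ∩ o' = ∅ with hP
  have hPc : P.card = 759 * 30 := by
    rw [hP, Finset.card_sigma, Finset.sum_const_nat (m := 30), ← Set.ncard_eq_toFinset_card _ octads_finite,
      ncard_octads]
    intro o ho
    exact octad_meets (octads_finite.mem_toFinset.1 ho) (Finset.empty_subset o)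
  have hmap : ∀ x ∈ P, ({x.1, x.2, (x.1 ∪ x.2)ᶜ} : Finset (Finset GolayPt)) ∈ trios_finite.toFinset := by
    intro x hx
    simp only [hP, hO, Finset.mem_sigma, Finset.mem_filter, Finset.mem_erase,
      Set.Finite.mem_toFinset] at hx ⊢
    exact trio_mk hx.1 hx.2.1.2 (Finset.disjoint_iff_inter_eq_empty.2 hx.2.2)
  have key := Finset.card_eq_sum_card_fiberwise hmap
  rw [hPc, Finset.sum_const_nat (m := 6), ← Set.ncard_eq_toFinset_card _ trios_finite] at key
  · omega
  intro T hT
  rw [trios_finite.mem_toFinset] at hT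
  have : ((T.offDiag).image fun x => (⟨x.1, x.2⟩ : Σ _ : Finset GolayPt, Finset GolayPt)).card = 6 := by
    rw [Finset.card_image_of_injective _ (by rintro ⟨a, b⟩ ⟨c, d⟩ h; simpa using h),
      Finset.offDiag_card, hT.1]
  rw [← this]
  congr 1
  ext ⟨a, b⟩
  simp only [hP, hO, Finset.mem_filter, Finset.mem_sigma, Finset.mem_erase, Set.Finite.mem_toFinset,
    Finset.mem_image, Finset.mem_offDiag, Prod.exists]
  constructor
  · rintro ⟨⟨ha, ⟨hne, hb⟩, hab⟩, rfl⟩
    exact ⟨a, b, ⟨by simp, by simp, Ne.symm hne⟩, rfl⟩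
  · rintro ⟨a', b', ⟨ha, hb, hne⟩, e⟩
    cases e
    exact ⟨⟨hT.2.1 a ha, ⟨Ne.symm hne, hT.2.1 b hb⟩,
      Finset.disjoint_iff_inter_eq_empty.1 (hT.2.2 a ha b hb hne)⟩, (trio_eq hT ha hb hne).symm⟩

/-! ### Sextets -/

theorem tetrads_disjoint {t u : Finset GolayPt} (ht : t.card = 4) (hu : u.card = 4)
    (h : t ∪ u ∈ octads) : Disjoint t u := by
  rw [← Finset.card_union_eq_card_add_card, h.2, ht, hu]

open Classical in
/-- The other five tetrads of the sextet of a tetrad `t`. -/
noncomputable def mates (t : Finset GolayPt) : Finset (Finset GolayPt) :=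
  (octads_finite.toFinset.filter (t ⊆ ·)).image (· \ t)

/-- The sextet of a tetrad. -/
noncomputable def sextetOf (t : Finset GolayPt) : Finset (Finset GolayPt) := insert t (mates t)

theorem mem_mates {t u : Finset GolayPt} :
    u ∈ mates t ↔ ∃ o ∈ octads, t ⊆ o ∧ o \ t = u := by
  simp [mates, and_assoc]

theorem card_mates {t : Finset GolayPt} (ht : t.card = 4) : (mates t).card = 5 := by
  classical
  have h := octads_designOn.lam (Finset.subset_univ t) (by omega : t.card ≤ 5)
  rw [ht, card_univ_pt, show Nat.choose (8 - 4) (5 - 4) = 4 by decide,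
    show Nat.choose (24 - 4) (5 - 4) = 20 by decide] at h
  rw [mates, Finset.card_image_of_injOn]
  · omega
  · intro a ha b hb e
    simp only [Finset.coe_filter, Set.mem_ofPred_eq] at ha hb
    simp only at e
    rw [← Finset.union_sdiff_of_subset ha.2, e, Finset.union_sdiff_of_subset hb.2]

theorem sextetOf_mem {t : Finset GolayPt} (ht : t.card = 4) : sextetOf t ∈ sextets := by
  have key : ∀ u ∈ mates t, u.card = 4 ∧ Disjoint t u ∧ t ∪ u ∈ octads := by
    intro u hu
    obtain ⟨o, ho, hto, rfl⟩ := mem_mates.1 hu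
    exact ⟨by rw [Finset.card_sdiff_of_subset hto, ho.2, ht], Finset.disjoint_sdiff,
      by rwa [Finset.union_sdiff_of_subset hto]⟩
  have hnot : t ∉ mates t := fun h => by
    have := (key t h).2.1
    rw [disjoint_self, Finset.bot_eq_empty] at this
    rw [this] at ht; simp at ht
  refine ⟨?_, ?_, ?_⟩
  · rw [sextetOf, Finset.card_insert_of_notMem hnot, card_mates ht]
  · simp only [sextetOf, Finset.mem_insert, forall_eq_or_imp]
    exact ⟨ht, fun u hu => (key u hu).1⟩
  · simp only [sextetOf, Finset.mem_insert]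
    rintro a (rfl | ha) b (rfl | hb) hne
    · exact absurd rfl hne
    · exact (key b hb).2.2
    · rw [Finset.union_comm]; exact (key a ha).2.2
    · obtain ⟨oa, hoa, hta, rfl⟩ := mem_mates.1 ha
      obtain ⟨ob, hob, htb, rfl⟩ := mem_mates.1 hb
      have hne' : oa ≠ ob := fun e => hne (by rw [e])
      have h4 : (oa ∩ ob).card = 4 := by
        have := ht ▸ Finset.card_le_card (Finset.subset_inter hta htb)
        rcases octad_inter_card hoa hob hne' with h | h | h <;> omega
      have hi : oa ∩ ob = t := (Finset.eq_of_subset_of_card_le (Finset.subset_inter hta htb)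
        (by omega)).symm
      convert octad_symmDiff hoa hob h4 using 1
      ext p
      have := Finset.ext_iff.1 hi p
      simp only [Finset.mem_inter] at this
      simp only [Finset.mem_union, Finset.mem_sdiff, Finset.mem_symmDiff]
      tauto

theorem sextet_eq {S : Finset (Finset GolayPt)} (hS : S ∈ sextets) {t : Finset GolayPt} (ht : t ∈ S) :
    S = sextetOf t := by
  classical
  have ht4 := hS.2.1 t ht
  have hsub : S ⊆ sextetOf t := by
    intro u hu
    by_cases h : u = t
    · subst h; simp [sextetOf]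
    · refine Finset.mem_insert_of_mem (mem_mates.2 ⟨t ∪ u, hS.2.2 t ht u hu (Ne.symm h),
        Finset.subset_union_left, ?_⟩)
      rw [Finset.union_sdiff_left, Finset.sdiff_eq_self_of_disjoint]
      exact (tetrads_disjoint ht4 (hS.2.1 u hu) (hS.2.2 t ht u hu (Ne.symm h))).symm
  refine Finset.eq_of_subset_of_card_le hsub ?_
  rw [hS.1]
  have := Finset.card_insert_le t (mates t)
  rw [card_mates ht4] at this
  exact this

theorem existsUnique_sextet {t : Finset GolayPt} (ht : t.card = 4) :
    ∃! S : Finset (Finset GolayPt), S ∈ sextets ∧ t ∈ S :=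
  ⟨sextetOf t, ⟨sextetOf_mem ht, by simp [sextetOf]⟩, fun _ h => sextet_eq h.1 h.2⟩

theorem ncard_sextets : sextets.ncard = 1771 := by
  classical
  have hfin : sextets.Finite := Set.toFinite _
  have hU : hfin.toFinset.biUnion id = (Finset.univ : Finset GolayPt).powersetCard 4 := by
    ext t
    simp only [Finset.mem_biUnion, Set.Finite.mem_toFinset, id, Finset.mem_powersetCard]
    exact ⟨fun ⟨S, hS, ht⟩ => ⟨Finset.subset_univ _, hS.2.1 t ht⟩,
      fun h => ⟨sextetOf t, sextetOf_mem h.2, by simp [sextetOf]⟩⟩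
  have := congrArg Finset.card hU
  rw [Finset.card_powersetCard, card_univ_pt, Finset.card_biUnion,
    Finset.sum_const_nat (m := 6), ← Set.ncard_eq_toFinset_card _ hfin,
    show Nat.choose 24 4 = 10626 by decide] at this
  · omega
  · exact fun S hS => (hfin.mem_toFinset.1 hS).1
  · intro S hS S' hS' hne
    refine Finset.disjoint_left.2 fun t (ht : t ∈ S) (ht' : t ∈ S') => hne ?_
    rw [sextet_eq (hfin.mem_toFinset.1 hS) ht, sextet_eq (hfin.mem_toFinset.1 hS') ht']

/-! ### Hexads on a dodecad and quartets -/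

variable {d : Finset GolayPt}

theorem hexadsOn_sub {h : Finset GolayPt} (hh : h ∈ hexadsOn d) : h ⊆ d := by
  obtain ⟨-, o, -, rfl⟩ := hh
  exact Finset.inter_subset_right

theorem octad_dodecad_inter_le (hd : d ∈ dodecads) {o : Finset GolayPt} (ho : o ∈ octads) :
    (o ∩ d).card ≤ 6 := by
  have h1 := card_symmDiff' o d
  have := ho.2
  have := hd.2
  have hle : (o ∩ d).card ≤ o.card := Finset.card_le_card Finset.inter_subset_left
  rcases supports_card (supports_symmDiff ho.1 hd.1) with h | h | h | h | h <;> omega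

theorem hexadsOn_designOn (hd : d ∈ dodecads) :
    DesignOn d 5 6 (Set.toFinite (hexadsOn d)).toFinset where
  sub b hb := hexadsOn_sub ((Set.Finite.mem_toFinset _).1 hb)
  size b hb := ((Set.Finite.mem_toFinset _).1 hb).1
  ex s hs h5 := by
    obtain ⟨o, ho, hso⟩ := exists_octad (h5.le : s.card ≤ 5)
    refine ⟨o ∩ d, (Set.Finite.mem_toFinset _).2 ⟨?_, o, ho, rfl⟩, Finset.subset_inter hso hs⟩
    obtain ⟨k, hk⟩ := even_card_inter ho.1 hd.1
    have := octad_dodecad_inter_le hd ho
    have := h5 ▸ Finset.card_le_card (Finset.subset_inter hso hs)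
    omega
  uniq s h5 b hb c hc hsb hsc := by
    obtain ⟨-, o, ho, rfl⟩ := (Set.Finite.mem_toFinset _).1 hb
    obtain ⟨-, o', ho', rfl⟩ := (Set.Finite.mem_toFinset _).1 hc
    rw [octad_eq_of_five ho ho' (h5 ▸ Finset.card_le_card (Finset.subset_inter
      (hsb.trans Finset.inter_subset_left) (hsc.trans Finset.inter_subset_left)))]

theorem hexad_compl (hd : d ∈ dodecads) {h : Finset GolayPt} (hh : h ∈ hexadsOn d) :
    d \ h ∈ hexadsOn d := by
  obtain ⟨h6, o, ho, rfl⟩ := hh
  refine ⟨?_, symmDiff o d, ⟨supports_symmDiff ho.1 hd.1, ?_⟩, ?_⟩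
  · rw [Finset.card_sdiff_of_subset Finset.inter_subset_right, h6, hd.2]
  · have := card_symmDiff' o d
    have := ho.2
    have := hd.2
    omega
  · ext p; simp only [Finset.mem_inter, Finset.mem_symmDiff, Finset.mem_sdiff]; tauto

theorem hexad_symmDiff {t u v : Finset GolayPt} (htu : Disjoint t u) (htv : Disjoint t v)
    (huv : Disjoint u v) (ht : t.card = 3) (hu : u.card = 3) (hv : v.card = 3)
    (h₁ : t ∪ u ∈ hexadsOn d) (h₂ : t ∪ v ∈ hexadsOn d) : u ∪ v ∈ hexadsOn d := by
  obtain ⟨-, o, ho, e⟩ := h₁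
  obtain ⟨h6, o', ho', e'⟩ := h₂
  have hne : o ≠ o' := by
    rintro rfl
    have : u ⊆ t ∪ v := by rw [← e', e]; exact Finset.subset_union_right
    have hu' : u = ∅ := Finset.disjoint_self_iff_empty u |>.1
      ((htu.symm.sup_right huv).mono_right this)
    simp [hu'] at hu
  have hsub : t ⊆ o ∩ o' := by
    intro p hp
    have hp1 : p ∈ o ∩ d := by rw [e]; exact Finset.mem_union_left _ hp
    have hp2 : p ∈ o' ∩ d := by rw [e']; exact Finset.mem_union_left _ hp
    exact Finset.mem_inter.2 ⟨(Finset.mem_inter.1 hp1).1, (Finset.mem_inter.1 hp2).1⟩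
  have h4 : (o ∩ o').card = 4 := by
    have := ht ▸ Finset.card_le_card hsub
    rcases octad_inter_card ho ho' hne with h | h | h <;> omega
  refine ⟨by rw [Finset.card_union_of_disjoint huv, hu, hv], _, octad_symmDiff ho ho' h4, ?_⟩
  rw [Finset.inter_comm, ← Finset.inf_eq_inter, inf_symmDiff_distrib_left, Finset.inf_eq_inter,
    Finset.inf_eq_inter, Finset.inter_comm d o, Finset.inter_comm d o', e, e']
  ext p
  have a := fun (h : p ∈ _) => Finset.disjoint_left.1 htu h
  have b := fun (h : p ∈ _) => Finset.disjoint_left.1 htv h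
  have c := fun (h : p ∈ _) => Finset.disjoint_left.1 huv h
  simp only [Finset.mem_symmDiff, Finset.mem_union]
  tauto

theorem existsUnique_quartet (hd : d ∈ dodecads) {t u : Finset GolayPt} (ht : t.card = 3)
    (hu : u.card = 3) (htu : Disjoint t u) (hh : t ∪ u ∈ hexadsOn d) :
    ∃! Q : Finset (Finset GolayPt), Q ∈ quartets d ∧ t ∈ Q ∧ u ∈ Q := by
  classical
  have hH := hexadsOn_designOn hd
  set H := t ∪ u with hHdef
  have hHd : H ⊆ d := hexadsOn_sub hh
  have hcnt := hH.meets_small hd.2 ((Set.Finite.mem_toFinset _).2 hh)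
    (Finset.subset_union_left : t ⊆ t ∪ u)
  rw [ht, meets] at hcnt
  -- the triples completing `t` to a hexad meeting `H` in `t`
  let X : Finset GolayPt → Prop := fun v => v.card = 3 ∧ v ⊆ d \ H ∧ t ∪ v ∈ hexadsOn d
  have toX : ∀ {c}, c ∈ hexadsOn d → H ∩ c = t → X (c \ t) ∧ t ∪ (c \ t) = c := by
    intro c hc e
    have htc : t ⊆ c := e ▸ Finset.inter_subset_right
    refine ⟨⟨?_, ?_, by rwa [Finset.union_sdiff_of_subset htc]⟩, Finset.union_sdiff_of_subset htc⟩
    · rw [Finset.card_sdiff_of_subset htc, hc.1, ht]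
    · intro p hp
      rw [Finset.mem_sdiff] at hp ⊢
      refine ⟨hexadsOn_sub hc hp.1, fun hpH => hp.2 ?_⟩
      rw [← e]
      exact Finset.mem_inter.2 ⟨hpH, hp.1⟩
  have hdis : ∀ {v}, v ⊆ d \ H → Disjoint t v ∧ Disjoint u v := fun hv =>
    ⟨(Finset.disjoint_sdiff.mono_right hv).mono_left Finset.subset_union_left,
      (Finset.disjoint_sdiff.mono_right hv).mono_left Finset.subset_union_right⟩
  have swap : ∀ {v}, X v → X ((d \ H) \ v) ∧ u ∪ v ∈ hexadsOn d ∧ u ∪ ((d \ H) \ v) ∈ hexadsOn d := by
    intro v hv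
    obtain ⟨d1, d2⟩ := hdis hv.2.1
    have huv := hexad_symmDiff htu d1 d2 ht hu hv.1 hh hv.2.2
    have e1 : d \ (u ∪ v) = t ∪ ((d \ H) \ v) := by
      ext p
      have a := fun (h : p ∈ _) => Finset.disjoint_left.1 htu h
      have b := fun (h : p ∈ _) => Finset.disjoint_left.1 d1 h
      have c : p ∈ t → p ∈ d := fun hp => hHd (Finset.mem_union_left _ hp)
      simp only [hHdef, Finset.mem_sdiff, Finset.mem_union] at *
      tauto
    have e2 : d \ (t ∪ v) = u ∪ ((d \ H) \ v) := by
      ext p
      have a := fun (h : p ∈ _) => Finset.disjoint_left.1 htu h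
      have b := fun (h : p ∈ _) => Finset.disjoint_left.1 d2 h
      have c : p ∈ u → p ∈ d := fun hp => hHd (Finset.mem_union_right _ hp)
      simp only [hHdef, Finset.mem_sdiff, Finset.mem_union] at *
      tauto
    refine ⟨⟨?_, Finset.sdiff_subset, e1 ▸ hexad_compl hd huv⟩, huv, e2 ▸ hexad_compl hd hv.2.2⟩
    rw [Finset.card_sdiff_of_subset hv.2.1, Finset.card_sdiff_of_subset hHd, hd.2, hv.1, hh.1]
  obtain ⟨c₁, c₂, hne, hc⟩ := Finset.card_eq_two.1 (show _ = 2 from hcnt)
  have hmem : ∀ c, c ∈ hexadsOn d → H ∩ c = t → c = c₁ ∨ c = c₂ := by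
    intro c h1 h2
    have : c ∈ ({c₁, c₂} : Finset (Finset GolayPt)) := by
      rw [← hc, Finset.mem_filter, Finset.mem_erase, Set.Finite.mem_toFinset]
      refine ⟨⟨?_, h1⟩, h2⟩
      rintro rfl
      rw [Finset.inter_self] at h2
      have h6 := hh.1
      rw [h2, ht] at h6
      omega
    simpa using this
  have hc₁' : c₁ ∈ hexadsOn d ∧ H ∩ c₁ = t := by
    have : c₁ ∈ ({c₁, c₂} : Finset (Finset GolayPt)) := by simp
    rw [← hc, Finset.mem_filter, Finset.mem_erase, Set.Finite.mem_toFinset] at this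
    exact ⟨this.1.2, this.2⟩
  set v := c₁ \ t with hvdef
  have hv : X v := (toX hc₁'.1 hc₁'.2).1
  set w := (d \ H) \ v with hwdef
  obtain ⟨hw, huv, huw⟩ := swap hv
  have only : ∀ {v'}, X v' → v' = v ∨ v' = w := by
    intro v' hv'
    have back : ∀ {x}, X x → H ∩ (t ∪ x) = t := by
      intro x hx
      ext p
      have a := fun (h : p ∈ _) => Finset.disjoint_left.1 (hdis hx.2.1).1 h
      have b := fun (h : p ∈ _) => Finset.disjoint_left.1 (hdis hx.2.1).2 h
      simp only [hHdef, Finset.mem_inter, Finset.mem_union]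
      tauto
    have inj : ∀ {x y}, X x → X y → t ∪ x = t ∪ y → x = y := by
      intro x y hx hy e
      rw [← Finset.union_sdiff_cancel_left (hdis hx.2.1).1, e,
        Finset.union_sdiff_cancel_left (hdis hy.2.1).1]
    have hwne : t ∪ w ≠ c₁ := by
      intro e
      have : w = v := inj hw hv (e.trans (toX hc₁'.1 hc₁'.2).2.symm)
      have hd' : Disjoint v w := Finset.disjoint_sdiff
      rw [this, disjoint_self, Finset.bot_eq_empty] at hd'
      have := hv.1
      simp [hd'] at this
    rcases hmem _ hv'.2.2 (back hv') with e | e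
    · exact .inl (inj hv' hv (e.trans (toX hc₁'.1 hc₁'.2).2.symm))
    · rcases hmem _ hw.2.2 (back hw) with e' | e'
      · exact absurd e' hwne
      · exact .inr (inj hv' hw (e.trans e'.symm))
  obtain ⟨dtv, duv⟩ := hdis hv.2.1
  obtain ⟨dtw, duw⟩ := hdis hw.2.1
  have dvw : Disjoint v w := Finset.disjoint_sdiff
  have hvw : v ∪ w = d \ H := Finset.union_sdiff_of_subset hv.2.1
  have ne3 : ∀ a b : Finset GolayPt, a.card = 3 → Disjoint a b → a ≠ b := by
    rintro a b ha hab rfl
    rw [disjoint_self, Finset.bot_eq_empty] at hab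
    simp [hab] at ha
  refine ⟨{t, u, v, w}, ⟨⟨?_, ?_, ?_⟩, by simp, by simp⟩, ?_⟩
  · rw [Finset.card_insert_of_notMem, Finset.card_insert_of_notMem, Finset.card_pair (ne3 _ _ hv.1 dvw)]
    · simp only [Finset.mem_insert, Finset.mem_singleton, not_or]
      exact ⟨ne3 _ _ hu duv, ne3 _ _ hu duw⟩
    · simp only [Finset.mem_insert, Finset.mem_singleton, not_or]
      exact ⟨ne3 _ _ ht htu, ne3 _ _ ht dtv, ne3 _ _ ht dtw⟩
  · simp only [Finset.mem_insert, Finset.mem_singleton, forall_eq_or_imp, forall_eq]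
    exact ⟨⟨ht, Finset.subset_union_left.trans hHd⟩, ⟨hu, Finset.subset_union_right.trans hHd⟩,
      ⟨hv.1, hv.2.1.trans Finset.sdiff_subset⟩, ⟨hw.1, hw.2.1.trans Finset.sdiff_subset⟩⟩
  · have hvw' : v ∪ w ∈ hexadsOn d := hvw ▸ hexad_compl hd hh
    simp only [Finset.mem_insert, Finset.mem_singleton]
    rintro a (rfl | rfl | rfl | rfl) b (rfl | rfl | rfl | rfl) hab <;>
      first
        | exact absurd rfl hab
        | exact hh
        | exact hv.2.2
        | exact hw.2.2
        | exact huv
        | exact huw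
        | exact hvw'
        | (rw [Finset.union_comm]; first
            | exact hh
            | exact hv.2.2
            | exact hw.2.2
            | exact huv
            | exact huw
            | exact hvw')
  · rintro Q ⟨hQ, htQ, huQ⟩
    refine Finset.eq_of_subset_of_card_le ?_ ?_
    · intro a ha
      by_cases hat : a = t
      · simp [hat]
      by_cases hau : a = u
      · simp [hau]
      have dis : ∀ b ∈ Q, a ≠ b → Disjoint a b := fun b hb hab => by
        rw [← Finset.card_union_eq_card_add_card, (hQ.2.2 a ha b hb hab).1, (hQ.2.1 a ha).1,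
          (hQ.2.1 b hb).1]
      have hX : X a := ⟨(hQ.2.1 a ha).1, Finset.subset_sdiff.2 ⟨(hQ.2.1 a ha).2,
        (dis t htQ hat).sup_right (dis u huQ hau)⟩, hQ.2.2 t htQ a ha (Ne.symm hat)⟩
      rcases only hX with e | e <;> simp [e]
    · rw [hQ.1]
      exact Finset.card_le_four

end CfsgLib.GolayDesign
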